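import Groth.Prelude.Def_RelProj
import Mathlib.AlgebraicGeometry.Morphisms.ClosedImmersion

/-!
# Base change of H-projective morphisms (helper18)

`P^n_{S'} = P^n_S ×_S S'`, and a base change of an H-projective morphism is H-projective.
-/

set_option autoImplicit false
universe u

open CategoryTheory CategoryTheory.Limits AlgebraicGeometry

namespace Groth.Agent.H18.HProj

/-- The projection `P^n_S ⟶ P^n_ℤ`. -/
noncomputable def toZ (n : ℕ) (S : Scheme.{u}) :
    CohB1.ProjSpaceOver n S ⟶ CohB1.ProjSpace n (ULift.{u} ℤ) :=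
  pullback.fst (CohB1.ProjSpace.toSpec n (ULift.{u} ℤ)) (specULiftZIsTerminal.from S)

theorem isPullback_toZ (n : ℕ) (S : Scheme.{u}) :
    IsPullback (toZ n S) (CohB1.ProjSpaceOver.toBase n S)
      (CohB1.ProjSpace.toSpec n (ULift.{u} ℤ)) (specULiftZIsTerminal.from S) :=
  IsPullback.of_hasPullback _ _

/-- The canonical morphism `P^n_{S'} ⟶ P^n_S` over `g : S' ⟶ S`. -/
noncomputable def projSpaceOverMap (n : ℕ) {S' S : Scheme.{u}} (g : S' ⟶ S) :
    CohB1.ProjSpaceOver n S' ⟶ CohB1.ProjSpaceOver n S :=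
  (isPullback_toZ n S).lift (toZ n S') (CohB1.ProjSpaceOver.toBase n S' ≫ g)
    ((isPullback_toZ n S').w.trans (by
      rw [Category.assoc]
      congr 1
      exact specULiftZIsTerminal.hom_ext _ _))

theorem projSpaceOverMap_toZ (n : ℕ) {S' S : Scheme.{u}} (g : S' ⟶ S) :
    projSpaceOverMap n g ≫ toZ n S = toZ n S' :=
  (isPullback_toZ n S).lift_fst _ _ _

theorem projSpaceOverMap_toBase (n : ℕ) {S' S : Scheme.{u}} (g : S' ⟶ S) :
    projSpaceOverMap n g ≫ CohB1.ProjSpaceOver.toBase n S = CohB1.ProjSpaceOver.toBase n S' ≫ g :=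
  (isPullback_toZ n S).lift_snd _ _ _

theorem isPullback_projSpaceOverMap (n : ℕ) {S' S : Scheme.{u}} (g : S' ⟶ S) :
    IsPullback (projSpaceOverMap n g) (CohB1.ProjSpaceOver.toBase n S')
      (CohB1.ProjSpaceOver.toBase n S) g := by
  refine IsPullback.of_right (h₁₂ := toZ n S) (h₂₂ := specULiftZIsTerminal.from S)
      (v₁₃ := CohB1.ProjSpace.toSpec n (ULift.{u} ℤ)) ?_ (projSpaceOverMap_toBase n g)
      (isPullback_toZ n S)
  have h1 : g ≫ specULiftZIsTerminal.from S = specULiftZIsTerminal.from S' :=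
    specULiftZIsTerminal.hom_ext _ _
  rw [projSpaceOverMap_toZ, h1]
  exact isPullback_toZ n S'

/-- A base change of an H-projective morphism is H-projective. -/
theorem isHProjective_of_isPullback {X X' S S' : Scheme.{u}} {f : X ⟶ S} {g : S' ⟶ S}
    {fst : X' ⟶ X} {snd : X' ⟶ S'} (sq : IsPullback fst snd f g)
    (hf : RelProj.IsHProjective f) : RelProj.IsHProjective snd := by
  obtain ⟨n, i, hi, rfl⟩ := hf
  have hq := isPullback_projSpaceOverMap n g
  have hw : (fst ≫ i) ≫ CohB1.ProjSpaceOver.toBase n S = snd ≫ g := by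
    rw [Category.assoc]; exact sq.w
  refine ⟨n, hq.lift (fst ≫ i) snd hw, ?_, hq.lift_snd _ _ _⟩
  have h1 : IsPullback fst (hq.lift (fst ≫ i) snd hw) i (projSpaceOverMap n g) := by
    refine IsPullback.of_bot ?_ (hq.lift_fst _ _ _).symm hq
    rw [hq.lift_snd]
    exact sq
  exact MorphismProperty.of_isPullback (P := @IsClosedImmersion) h1 hi

/-- `IsHProjective` is invariant under isomorphisms of the target. -/
theorem isHProjective_of_comp_iso {X S S' : Scheme.{u}} (f : X ⟶ S) (b : S ⟶ S') [IsIso b]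
    (hf : RelProj.IsHProjective (f ≫ b)) : RelProj.IsHProjective f :=
  isHProjective_of_isPullback (IsPullback.of_horiz_isIso ⟨by simp⟩ :
    IsPullback (𝟙 X) f (f ≫ b) b) hf

/-- `IsHProjective` is invariant under isomorphisms of the target (other direction). -/
theorem isHProjective_comp_iso {X S S' : Scheme.{u}} (f : X ⟶ S) (b : S ⟶ S') [IsIso b]
    (hf : RelProj.IsHProjective f) : RelProj.IsHProjective (f ≫ b) :=
  isHProjective_of_isPullback (IsPullback.of_horiz_isIso ⟨by simp⟩ :
    IsPullback (𝟙 X) (f ≫ b) f (inv b)) hf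

/-- `IsHProjective` is invariant under isomorphisms of the source. -/
theorem isHProjective_iso_comp {X X' S : Scheme.{u}} (a : X' ⟶ X) [IsIso a] (f : X ⟶ S)
    (hf : RelProj.IsHProjective f) : RelProj.IsHProjective (a ≫ f) := by
  obtain ⟨n, i, hi, rfl⟩ := hf
  exact ⟨n, a ≫ i, inferInstance, Category.assoc _ _ _⟩

end Groth.Agent.H18.HProj

namespace Groth.Agent.H18.HProj

/-- `IsHProjective` is invariant under isomorphisms of arrows. -/
theorem isHProjective_of_arrow_iso {X S X' S' : Scheme.{u}} {g1 : X ⟶ S} {g2 : X' ⟶ S'}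
    (φ : Arrow.mk g1 ≅ Arrow.mk g2) (h : RelProj.IsHProjective g1) : RelProj.IsHProjective g2 := by
  have hw : φ.hom.left ≫ g2 = g1 ≫ φ.hom.right := Arrow.w φ.hom
  haveI : IsIso φ.hom.left := inferInstance
  haveI : IsIso φ.hom.right := inferInstance
  have h1 : g2 = inv φ.hom.left ≫ (g1 ≫ φ.hom.right) := by
    rw [IsIso.eq_inv_comp]; exact hw
  rw [h1]
  exact isHProjective_iso_comp _ _ (isHProjective_comp_iso _ _ h)

end Groth.Agent.H18.HProj
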