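import Groth.Agent.H41.ProjProper
import Groth.Prelude.Def_CohB1

/-!
# `Proj 𝒜` as a closed subscheme of `P^n_{R₀}` (helper18)

Variant of `Groth.Agent.H41.ProjProper` with the variables indexed by `Fin (n + 1)`, so that the target is the frozen
`CohB1.ProjSpace n R₀`.
-/

set_option autoImplicit false
universe u

open AlgebraicGeometry HomogeneousLocalization CategoryTheory
open scoped HomogeneousIdeal

namespace Groth.Agent.H18.HProj

variable {A σ : Type u} [CommRing A] [SetLike σ A] [AddSubgroupClass σ A]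
  {𝒜 : ℕ → σ} [GradedRing 𝒜]
  {R₀ : Type u} [CommRing R₀] [Algebra R₀ A]
  (halg : ∀ r : R₀, algebraMap R₀ A r ∈ 𝒜 0)
  (n : ℕ) (t : Fin (n + 1) → A) (ht : ∀ i, t i ∈ 𝒜 1)
  (hspan : ∀ x ∈ 𝒜 1, x ∈ Submodule.span R₀ (Set.range t))
  (hgen : Subring.closure ((𝒜 0 : Set A) ∪ (𝒜 1 : Set A)) = ⊤)

/-- the polynomial ring mapping to `A` -/
noncomputable def π : MvPolynomial (Fin (n + 1)) R₀ →ₐ[R₀] A := MvPolynomial.aeval t

include halg ht in
theorem π_mem {k : ℕ} {q : MvPolynomial (Fin (n + 1)) R₀}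
    (hq : q ∈ CohB1.polyGrading n R₀ k) : π (R₀ := R₀) n t q ∈ 𝒜 k := by
  classical
  rw [← MvPolynomial.support_sum_monomial_coeff q, map_sum]
  refine sum_mem fun d hd => ?_
  rw [π, MvPolynomial.aeval_monomial]
  have h1 : algebraMap R₀ A (MvPolynomial.coeff d q) ∈ 𝒜 0 := halg _
  have h2 : (d.prod fun (i : Fin (n + 1)) k => (t i) ^ k) ∈ 𝒜 (∑ i ∈ d.support, d i • 1) :=
    SetLike.prod_pow_mem_graded 𝒜 (fun _ => 1) (fun i : Fin (n + 1) => t i) (fun i => d i)
      (fun i _ => ht i)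
  have h3 : ∑ i ∈ d.support, d i • 1 = k := by
    have := hq (MvPolynomial.mem_support_iff.1 hd)
    simpa [Finsupp.weight_apply, Finsupp.sum] using this
  have := SetLike.mul_mem_graded h1 h2
  rwa [zero_add, h3] at this

/-- the graded ring homomorphism from the polynomial ring -/
noncomputable def Φ : (CohB1.polyGrading n R₀) →+*ᵍ 𝒜 :=
  { (π (R₀ := R₀) n t).toRingHom with map_mem := fun hq => π_mem halg n t ht hq }

theorem Φ_apply (q : MvPolynomial (Fin (n + 1)) R₀) : Φ halg n t ht q = π (R₀ := R₀) n t q := rfl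

theorem le_map_one : Submodule.span R₀ (Set.range t) ≤
    Submodule.map (π (R₀ := R₀) n t).toLinearMap (CohB1.polyGrading n R₀ 1) := by
  rw [Submodule.span_le]
  rintro _ ⟨i, rfl⟩
  exact ⟨MvPolynomial.X i, MvPolynomial.isHomogeneous_X R₀ _, by simp [π]⟩

include halg ht hspan hgen in
theorem surjOn (k : ℕ) (hk : 1 ≤ k) (x : A) (hx : x ∈ 𝒜 k) :
    ∃ q ∈ CohB1.polyGrading n R₀ k, Φ halg n t ht q = x := by
  classical
  have hT : ((Finset.univ.image t : Finset A) : Set A) = Set.range t := by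
    ext; simp
  have h1 := Groth.Agent.H41.ProjFT.mem_pow_of_mem_deg halg (Finset.univ.image t)
    (by intro x hx; obtain ⟨i, _, rfl⟩ := Finset.mem_image.1 hx; exact ht i)
    (by rw [hT]; exact hspan) hgen k hk x hx
  rw [hT] at h1
  have h2 : Submodule.span R₀ (Set.range t) ^ k ≤
      Submodule.map (π (R₀ := R₀) n t).toLinearMap (CohB1.polyGrading n R₀ k) := by
    change _ ≤ Submodule.map _ (MvPolynomial.homogeneousSubmodule (Fin (n + 1)) R₀ k)
    rw [← MvPolynomial.homogeneousSubmodule_one_pow, Submodule.map_pow]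
    exact pow_le_pow_left' (le_map_one n t) k
  obtain ⟨q, hq, hqx⟩ := h2 h1
  exact ⟨q, hq, hqx⟩

include hspan hgen in
theorem irr_le : 𝒜₊ ≤ (CohB1.polyGrading n R₀)₊.map (Φ halg n t ht) := by
  change (𝒜₊).toIdeal ≤ _
  rw [HomogeneousIdeal.toIdeal_irrelevant_le]
  intro k hk x hx
  obtain ⟨q, hq, rfl⟩ := surjOn halg n t ht hspan hgen k hk x hx
  exact Ideal.mem_map_of_mem _ (HomogeneousIdeal.mem_irrelevant_of_mem _ hk hq)

include hspan hgen in
theorem isClosedImmersion :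
    IsClosedImmersion (Proj.map (Φ halg n t ht) (irr_le halg n t ht hspan hgen)) :=
  Groth.Agent.H41.ProjGen.isClosedImmersion_projMap_of_surjOn_ge (Φ halg n t ht) 1
    (fun k hk b hb => surjOn halg n t ht hspan hgen k hk b hb) _

/-- The closed immersion `Proj 𝒜 ⟶ P^n_{R₀}`. -/
noncomputable def toProjSpace : Proj 𝒜 ⟶ CohB1.ProjSpace n R₀ :=
  Proj.map (Φ halg n t ht) (irr_le halg n t ht hspan hgen)

instance : IsClosedImmersion (toProjSpace halg n t ht hspan hgen) :=
  isClosedImmersion halg n t ht hspan hgen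

theorem toProjSpace_toSpec (ψ : R₀ →+* 𝒜 0) (hψ : ∀ r, (ψ r : A) = algebraMap R₀ A r) :
    toProjSpace halg n t ht hspan hgen ≫ CohB1.ProjSpace.toSpec n R₀ =
      Proj.toSpecZero 𝒜 ≫ Spec.map (CommRingCat.ofHom ψ) := by
  have hψ' : ψ = (Φ halg n t ht).gradedZeroRingHom.comp
      (algebraMap R₀ (CohB1.polyGrading n R₀ 0)) := by
    ext r
    rw [hψ]
    change _ = π (R₀ := R₀) n t (algebraMap R₀ (MvPolynomial (Fin (n + 1)) R₀) r)
    rw [AlgHom.commutes]
  have h1 := Groth.Agent.H41.ProjGen.map_toSpecZero (Φ halg n t ht)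
    (irr_le halg n t ht hspan hgen)
  have h2 : Proj.map (Φ halg n t ht) (irr_le halg n t ht hspan hgen) ≫
      (Proj.toSpecZero (CohB1.polyGrading n R₀) ≫
        Spec.map (CommRingCat.ofHom (algebraMap R₀ (CohB1.polyGrading n R₀ 0)))) =
      Proj.toSpecZero 𝒜 ≫ Spec.map (CommRingCat.ofHom ψ) := by
    rw [← Category.assoc, h1, Category.assoc, ← Spec.map_comp, hψ']
    rfl
  exact h2

end Groth.Agent.H18.HProj
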