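import Groth.Agent.H18.HProj.BaseChange
import Groth.Agent.H18.HProj.ClosedImm
import Groth.Agent.H18.VA.ProjSpaceIso

/-!
# A projective morphism is H-projective over every affine open of the base (helper18)
-/

set_option autoImplicit false
universe u

open AlgebraicGeometry CategoryTheory CategoryTheory.Limits Opposite
open scoped HomogeneousIdeal

namespace Groth.Agent.H18.HProj

/-- `Proj 𝒜 ⟶ Spec R₀` is H-projective when `𝒜` is generated in degrees `0, 1` and `𝒜 1` is spanned over `R₀` by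
finitely many elements. -/
theorem isHProjective_toSpecZero_comp {A σ : Type u} [CommRing A] [SetLike σ A] [AddSubgroupClass σ A]
    {𝒜 : ℕ → σ} [GradedRing 𝒜] {R₀ : Type u} [CommRing R₀] [Algebra R₀ A]
    (halg : ∀ r : R₀, algebraMap R₀ A r ∈ 𝒜 0)
    (n : ℕ) (t : Fin (n + 1) → A) (ht : ∀ i, t i ∈ 𝒜 1)
    (hspan : ∀ x ∈ 𝒜 1, x ∈ Submodule.span R₀ (Set.range t))
    (hgen : Subring.closure ((𝒜 0 : Set A) ∪ (𝒜 1 : Set A)) = ⊤)
    (ψ : R₀ →+* 𝒜 0) (hψ : ∀ r, (ψ r : A) = algebraMap R₀ A r) :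
    RelProj.IsHProjective (Proj.toSpecZero 𝒜 ≫ Spec.map (CommRingCat.ofHom ψ)) := by
  obtain ⟨h, hh, -, -⟩ := Groth.Agent.H18.VA.exists_projSpaceOver_iso n R₀
  have h1 : h.inv ≫ CohB1.ProjSpaceOver.toBase n (Spec (CommRingCat.of R₀)) =
      CohB1.ProjSpace.toSpec n R₀ := by
    rw [Iso.inv_comp_eq]; exact hh.symm
  refine ⟨n, toProjSpace halg n t ht hspan hgen ≫ h.inv, inferInstance, ?_⟩
  rw [Category.assoc, h1]
  exact toProjSpace_toSpec halg n t ht hspan hgen ψ hψ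

/-- Finset version: `𝒜 1` spanned by a finite set `T`. -/
theorem isHProjective_toSpecZero_comp' {A σ : Type u} [CommRing A] [SetLike σ A]
    [AddSubgroupClass σ A]
    {𝒜 : ℕ → σ} [GradedRing 𝒜] {R₀ : Type u} [CommRing R₀] [Algebra R₀ A]
    (halg : ∀ r : R₀, algebraMap R₀ A r ∈ 𝒜 0)
    (T : Finset A) (hT : ∀ y ∈ T, y ∈ 𝒜 1)
    (hspan : ∀ x ∈ 𝒜 1, x ∈ Submodule.span R₀ (T : Set A))
    (hgen : Subring.closure ((𝒜 0 : Set A) ∪ (𝒜 1 : Set A)) = ⊤)
    (ψ : R₀ →+* 𝒜 0) (hψ : ∀ r, (ψ r : A) = algebraMap R₀ A r) :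
    RelProj.IsHProjective (Proj.toSpecZero 𝒜 ≫ Spec.map (CommRingCat.ofHom ψ)) := by
  classical
  let t : Fin (T.card + 1) → A := Fin.cons 0 (fun i => ((T.equivFin).symm i : A))
  have ht : ∀ i, t i ∈ 𝒜 1 := by
    intro i
    refine Fin.cases ?_ (fun j => ?_) i
    · exact zero_mem _
    · exact hT _ (T.equivFin.symm j).2
  have hsub : (T : Set A) ⊆ Set.range t := by
    intro y hy
    exact ⟨Fin.succ (T.equivFin ⟨y, hy⟩), by simp [t]⟩
  exact isHProjective_toSpecZero_comp halg T.card t ht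
    (fun x hx => Submodule.span_mono hsub (hspan x hx)) hgen ψ hψ

end Groth.Agent.H18.HProj
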