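import Groth.Agent.H18.HProj.OfProjective

/-!
# A projective morphism is H-projective over every affine open of the base, part 2 (helper18)
-/

set_option autoImplicit false
universe u

open AlgebraicGeometry CategoryTheory CategoryTheory.Limits Opposite
open scoped HomogeneousIdeal

namespace Groth.Agent.H18.HProj

/-- For a quasi-coherent graded algebra generated in degree one with degree-one part of finite type, the Proj over an
affine open is H-projective over the spectrum of the ring of functions. -/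
theorem isHProjective_proj_of_qcGrAlg {B : Scheme.{u}} (𝒮 : RelProj.QCGrAlg B)
    (hgen : 𝒮.IsGenDegOne) (hft : 𝒮.IsFTDeg 1) (V : B.Opens) (hV : IsAffineOpen V) :
    RelProj.IsHProjective (Proj.toSpecZero (𝒮.deg V hV) ≫ Spec.map (𝒮.strZero V hV)) := by
  classical
  obtain ⟨T, hT1, hTspan⟩ := hft V hV
  letI : Algebra Γ(B, V) (𝒮.presheaf.obj (op V)) := (𝒮.str.app (op V)).hom.toAlgebra
  have halg : ∀ r : Γ(B, V), algebraMap Γ(B, V) (𝒮.presheaf.obj (op V)) r ∈ 𝒮.deg V hV 0 :=
    𝒮.str_mem V hV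
  have hspan : ∀ x ∈ 𝒮.deg V hV 1, x ∈ Submodule.span Γ(B, V) (T : Set (𝒮.presheaf.obj (op V))) := by
    intro x hx
    obtain ⟨c, rfl⟩ := hTspan x hx
    refine Submodule.sum_mem _ fun y hy => ?_
    have : (𝒮.str.app (op V)).hom (c y) * y = c y • y := (Algebra.smul_def _ _).symm
    rw [this]
    exact Submodule.smul_mem _ _ (Submodule.subset_span hy)
  exact isHProjective_toSpecZero_comp' halg T (fun y hy => hT1 hy) hspan (hgen V hV)
    (𝒮.strZero V hV).hom (fun r => rfl)

end Groth.Agent.H18.HProj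

namespace Groth.Agent.H18.HProj

/-- A projective morphism restricts to an H-projective morphism over every affine open of the base. -/
theorem isHProjective_morphismRestrict_of_isProjective {X B : Scheme.{u}} (g : X ⟶ B)
    (hg : RelProj.IsProjective g) (V : B.Opens) (hV : IsAffineOpen V) :
    RelProj.IsHProjective (g ∣_ V) := by
  obtain ⟨𝒮, P, p, chart, e, hgen, hft, hrel, rfl⟩ := hg
  have h0 := isHProjective_proj_of_qcGrAlg 𝒮 hgen hft V hV
  have h1 : RelProj.IsHProjective ((Proj.toSpecZero (𝒮.deg V hV) ≫ Spec.map (𝒮.strZero V hV)) ≫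
      hV.isoSpec.inv) := isHProjective_comp_iso _ _ h0
  -- the isomorphism `(e.hom ≫ p)⁻¹ V ≅ p⁻¹ V`
  let a : ((e.hom ≫ p) ⁻¹ᵁ V : Scheme.{u}) ⟶ (p ⁻¹ᵁ V : Scheme.{u}) := e.hom ∣_ (p ⁻¹ᵁ V)
  haveI : IsIso a := (inferInstance : IsIso (e.hom ∣_ (p ⁻¹ᵁ V)))
  have ha1 : a ≫ (p ⁻¹ᵁ V).ι = ((e.hom ≫ p) ⁻¹ᵁ V).ι ≫ e.hom := morphismRestrict_ι _ _
  have h2 := isHProjective_iso_comp (a ≫ (chart V hV).hom) _ h1
  have h3 : (a ≫ (chart V hV).hom) ≫
      ((Proj.toSpecZero (𝒮.deg V hV) ≫ Spec.map (𝒮.strZero V hV)) ≫ hV.isoSpec.inv) =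
      (e.hom ≫ p) ∣_ V := by
    rw [← cancel_mono V.ι, morphismRestrict_ι]
    have h4 := hrel.chart_over V hV
    have h5 : hV.isoSpec.inv ≫ V.ι = hV.fromSpec := rfl
    simp only [Category.assoc, h5]
    rw [h4, reassoc_of% ha1]
  rw [← h3]
  exact h2

end Groth.Agent.H18.HProj
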