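import Mathlib.AlgebraicGeometry.Restrict
import Mathlib.AlgebraicGeometry.Pullbacks

/-!
# Restricting a pullback square over an open of the base (helper18)
-/

set_option autoImplicit false
universe u

open CategoryTheory CategoryTheory.Limits AlgebraicGeometry

namespace Groth.Agent.H18.HProj

/-- Given a pullback square `X' = X ×_S S'` and an open `U ⊆ S`, the restriction of `X' ⟶ S'` over `g⁻¹ U` is the base
change of the restriction of `X ⟶ S` over `U` along `g⁻¹ U ⟶ U`. -/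
theorem exists_isPullback_morphismRestrict {X X' S S' : Scheme.{u}} {f : X ⟶ S} {g : S' ⟶ S}
    {fst : X' ⟶ X} {snd : X' ⟶ S'} (sq : IsPullback fst snd f g) (U : S.Opens) :
    ∃ a : (snd ⁻¹ᵁ (g ⁻¹ᵁ U) : Scheme.{u}) ⟶ (f ⁻¹ᵁ U : Scheme.{u}),
      IsPullback a (snd ∣_ (g ⁻¹ᵁ U)) (f ∣_ U) (g ∣_ U) := by
  have hA := (isPullback_morphismRestrict snd (g ⁻¹ᵁ U)).flip
  have hC := (isPullback_morphismRestrict f U).flip
  have hAB := hA.paste_horiz sq
  have hw : ((snd ⁻¹ᵁ (g ⁻¹ᵁ U)).ι ≫ fst) ≫ f = ((snd ∣_ (g ⁻¹ᵁ U)) ≫ (g ∣_ U)) ≫ U.ι := by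
    rw [Category.assoc (snd ∣_ (g ⁻¹ᵁ U)), morphismRestrict_ι]
    exact hAB.w
  refine ⟨hC.lift _ _ hw, ?_⟩
  refine IsPullback.of_right ?_ (hC.lift_snd _ _ hw) hC
  rw [hC.lift_fst, morphismRestrict_ι]
  exact hAB

end Groth.Agent.H18.HProj
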